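import Cfsg.Agent.CentralRankOne.Simple
import Cfsg.Agent.Classical.PSLTwo
import Cfsg.Agent.LocalB.SixtyFourModels

/-!
# Simple groups with Sylow 2-subgroups of order eight

The non-abelian case follows from the classification of simple groups of 2-rank two; the abelian
case is a hypothesis, the classification of simple groups with abelian Sylow 2-subgroups.
-/

set_option autoImplicit false
set_option linter.unusedSectionVars false
set_option linter.style.haveILetI false

namespace CfsgLib.SylowEight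

open Subgroup

universe u

/-- The classification of simple groups with abelian Sylow 2-subgroups, with the group orders. -/
def AbelianSimple : Prop :=
  ∀ (G : Type u) [Group G] [Finite G] [IsSimpleGroup G], ¬ IsMulCommutative G →
    ∀ S : Sylow 2 G, IsMulCommutative (S : Subgroup G) →
    (∃ a : ℕ, 2 ≤ a ∧ ∃ (F : Type) (_ : Field F) (_ : Fintype F), Fintype.card F = 2 ^ a ∧
        Nonempty (G ≃* Matrix.ProjectiveSpecialLinearGroup (Fin 2) F)) ∨
      (∃ (F : Type) (_ : Field F) (_ : Fintype F),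
        (Fintype.card F % 8 = 3 ∨ Fintype.card F % 8 = 5) ∧
        Nonempty (G ≃* Matrix.ProjectiveSpecialLinearGroup (Fin 2) F)) ∨
      Cfsg.IsRee G ∨ Cfsg.IsJ1 G

variable {G : Type u} [Group G] [Finite G]

/-- A power of two divides the order iff it divides the order of a Sylow 2-subgroup. -/
theorem pow_dvd_iff (T : Sylow 2 G) (hT : Nat.card (T : Subgroup G) = 8) (k : ℕ) :
    2 ^ k ∣ Nat.card G ↔ k ≤ 3 := by
  haveI : Fact (Nat.Prime 2) := ⟨Nat.prime_two⟩
  constructor
  · intro h
    obtain ⟨A, hA⟩ := Sylow.exists_subgroup_card_pow_prime 2 h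
    obtain ⟨B, hB⟩ := (IsPGroup.of_card hA).exists_le_sylow
    have hcard := card_dvd_of_le hB
    rw [hA, Nat.card_congr (B.equiv T).toEquiv, hT] at hcard
    exact (Nat.pow_dvd_pow_iff_le_right (by norm_num)).1 (show 2 ^ k ∣ 2 ^ 3 from hcard)
  · intro h
    have h1 := (T : Subgroup G).card_subgroup_dvd_card
    rw [hT] at h1
    exact (Nat.pow_dvd_pow 2 h).trans h1

/-- The field in the dihedral case. -/
theorem q_mod_sixteen (T : Sylow 2 G) (hT : Nat.card (T : Subgroup G) = 8) {F : Type} [Field F]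
    [Fintype F] (hodd : Odd (Fintype.card F))
    (ι : G ≃* Matrix.ProjectiveSpecialLinearGroup (Fin 2) F) :
    Fintype.card F % 16 = 7 ∨ Fintype.card F % 16 = 9 := by
  have hq : Nat.card F = Fintype.card F := Nat.card_eq_fintype_card
  have hmul := Linear.PSLTwo.two_mul_card_psl F (by rw [hq]; exact hodd)
  rw [hq, show Nat.card (Matrix.ProjectiveSpecialLinearGroup (Fin 2) F) = Nat.card G from
    (Nat.card_congr ι.toEquiv).symm] at hmul
  obtain ⟨d, hd⟩ := (pow_dvd_iff T hT 3).2 le_rfl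
  have hd' : Odd d := by
    rw [Nat.odd_iff, ← Nat.two_dvd_ne_zero]
    rintro ⟨e, rfl⟩
    exact absurd ((pow_dvd_iff T hT 4).1 ⟨e, by rw [hd]; ring⟩) (by norm_num)
  rw [hd] at hmul
  generalize Fintype.card F = c at hodd hmul ⊢
  have hcop : Nat.Coprime (2 ^ 4) c := (Nat.coprime_two_left.2 hodd).pow_left 4
  obtain ⟨e, he⟩ : 2 ^ 4 ∣ c ^ 2 - 1 := hcop.dvd_of_dvd_mul_left ⟨d, by rw [← hmul]; ring⟩
  have hce : c * e = d := by
    rw [he] at hmul
    linarith
  have he' : Odd e := Nat.Odd.of_mul_right (hce.symm ▸ hd')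
  obtain ⟨i, rfl⟩ := he'
  have hc1 : 1 ≤ c ^ 2 := Nat.one_le_pow _ _ hodd.pos
  have hc2 : c ^ 2 % 32 = 17 := by omega
  rw [Nat.pow_mod] at hc2
  have hlt : c % 32 < 32 := Nat.mod_lt _ (by norm_num)
  have h16 : c % 16 = c % 32 % 16 := by omega
  rw [h16]
  generalize c % 32 = r at hlt hc2 ⊢
  interval_cases r <;> simp_all

variable [IsSimpleGroup G]

/-- The theorem, given the abelian case. -/
theorem sylow_eight_row (hab : AbelianSimple.{u}) (hU : CentralRankOne.U34Simple.{u})
    (hG : ¬ IsMulCommutative G) (T : Sylow 2 G) (hT : Nat.card ↥(T : Subgroup G) = 8) :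
    (∃ (F : Type) (_ : Field F) (_ : Fintype F), Fintype.card F = 8 ∧
        Nonempty (G ≃* Matrix.ProjectiveSpecialLinearGroup (Fin 2) F)) ∨
      (∃ (F : Type) (_ : Field F) (_ : Fintype F),
        (Fintype.card F % 16 = 7 ∨ Fintype.card F % 16 = 9) ∧
        Nonempty (G ≃* Matrix.ProjectiveSpecialLinearGroup (Fin 2) F)) ∨
      Nonempty (G ≃* alternatingGroup (Fin 7)) ∨ Cfsg.IsJ1 G ∨ Cfsg.IsRee G := by
  classical
  haveI : Fact (Nat.Prime 2) := ⟨Nat.prime_two⟩
  by_cases hc : IsMulCommutative (T : Subgroup G)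
  · rcases hab G hG T hc with ⟨a, ha, F, i1, i2, hF, ⟨e⟩⟩ | ⟨F, i1, i2, h8, ⟨e⟩⟩ | h | h
    · refine Or.inl ⟨F, i1, i2, ?_, ⟨e⟩⟩
      have hq : Nat.card F = 2 ^ a := by rw [Nat.card_eq_fintype_card, hF]
      have hmul := Linear.PSLTwo.mul_card (F := F)
      rw [Linear.PSLTwo.gcd_eq_one (by rw [hq]; exact even_two.pow_of_ne_zero (by omega)), one_mul,
        show Nat.card (Dickson.PSL2 F) = Nat.card G from (Nat.card_congr e.toEquiv).symm, hq] at hmul
      have h1 : a ≤ 3 := (pow_dvd_iff T hT a).1 ⟨_, hmul⟩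
      have h3 := (pow_dvd_iff T hT 3).2 le_rfl
      rw [hmul] at h3
      interval_cases a
      · norm_num at h3
      · rw [hF]; norm_num
    · exfalso
      have hodd : Odd (Fintype.card F) := by rw [Nat.odd_iff]; omega
      have := q_mod_sixteen T hT hodd e
      omega
    · exact Or.inr (Or.inr (Or.inr (Or.inr h)))
    · exact Or.inr (Or.inr (Or.inr (Or.inl h)))
  have hr : Cfsg.PRankLE 2 2 G := by
    intro A hAc hA2
    by_contra hlt
    push Not at hlt
    have hAp : IsPGroup 2 A := fun a => ⟨1, Subtype.ext (by simpa [pow_one] using hA2 a a.2)⟩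
    obtain ⟨R, hR⟩ := hAp.exists_le_sylow
    have hcardR : Nat.card (R : Subgroup G) = 8 := by
      rw [Nat.card_congr (R.equiv T).toEquiv, hT]
    obtain ⟨k, hk⟩ := IsPGroup.iff_card.1 hAp
    have hle := card_le_of_le hR
    have hA8 : A = (R : Subgroup G) := by
      refine eq_of_le_of_card_ge hR ?_
      rw [hcardR, hk] at hle ⊢
      rw [hk] at hlt
      have h3 : 2 < k := (Nat.pow_lt_pow_iff_right (by norm_num : 1 < 2)).1 hlt
      exact le_trans (by norm_num) (Nat.pow_le_pow_right two_pos h3)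
    refine hc ⟨⟨fun a b => (T.equiv R).injective ?_⟩⟩
    rw [map_mul, map_mul]
    subst hA8
    exact hAc.is_comm.comm _ _
  letI : Fintype (GaloisField 2 4) := Fintype.ofFinite _
  have hF : Fintype.card (GaloisField 2 4) = 16 := by
    rw [← Nat.card_eq_fintype_card, GaloisField.card 2 4 (by norm_num)]; norm_num
  obtain ⟨P'⟩ : Nonempty (Sylow 2 (Cfsg.PSU 3 (GaloisField 2 4) 4)) := Sylow.nonempty
  rcases FTRows.simple_two_rank_two (fun X [_] [_] hX => Cfsg.Agent.S0205.result hX) hG hr T hF P'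
    with ⟨n, hn, ⟨e⟩⟩ | ⟨n, hn, hcard, -⟩ | ⟨n, hn, hcard, -⟩ | hU'
  · have hn4 : n = 4 := by
      have := Nat.card_congr e.toEquiv
      rw [hT, DihedralGroup.nat_card] at this
      omega
    subst hn4
    haveI : Group.IsPerfect G := ⟨(IsSimpleGroup.eq_bot_or_eq_top_of_normal _
      (inferInstance : (commutator G).Normal)).resolve_left fun h => hG ⟨⟨fun a b =>
        commutatorElement_eq_one_iff_mul_comm.1 (mem_bot.1 (h ▸ by
          rw [_root_.commutator_def]
          exact commutator_mem_commutator (mem_top a) (mem_top b)))⟩⟩⟩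
    have hO : Cfsg.oddCore G = ⊥ := by
      rcases (DGroup.normal_oddCore G).eq_bot_or_eq_top with h | h
      · exact h
      · exfalso
        have h1 := DGroup.odd_oddCore G
        rw [h, card_top] at h1
        exact CentralRankOne.even_of_simple hG h1
    let bot : G ⧸ Cfsg.oddCore G ≃* G :=
      (QuotientGroup.quotientMulEquivOfEq hO).trans QuotientGroup.quotientBot
    rcases GW.Top.statement G T 4 (by norm_num) ⟨e⟩ with ⟨F, i1, i2, hodd, -, ⟨q⟩⟩ | ⟨⟨q⟩⟩
    · exact Or.inr (Or.inl ⟨F, i1, i2, q_mod_sixteen T hT hodd (bot.symm.trans q),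
        ⟨bot.symm.trans q⟩⟩)
    · exact Or.inr (Or.inr (Or.inl ⟨bot.symm.trans q⟩))
  · exfalso
    rw [hT] at hcard
    have : 2 ^ 4 ≤ 2 ^ (n + 1) := Nat.pow_le_pow_right two_pos (by omega)
    omega
  · exfalso
    rw [hT] at hcard
    have : 2 ^ 5 ≤ 2 ^ (2 * n + 1) := Nat.pow_le_pow_right two_pos (by omega)
    omega
  · exfalso
    obtain ⟨e⟩ := hU G (GaloisField 2 4) hF T P' hU'
    have h6 : 2 ^ 6 ∣ Nat.card G := by
      rw [Nat.card_congr e.toEquiv, SixtyFour.card_psu_three_four hF]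
      exact Dvd.intro _ rfl
    exact absurd ((pow_dvd_iff T hT 6).1 h6) (by norm_num)

end CfsgLib.SylowEight
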